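import Mathlib

/-! Fields of invariants of semilinear actions: the no-name lemma. -/

set_option autoImplicit false

universe u v w

namespace InvFldH7

variable {k : Type u} {L : Type v} [Field k] [Field L] [Algebra k L]

theorem noName (E : IntermediateField k L) {ι : Type w} [Finite ι] (y : ι → L)
    (hy : AlgebraicIndependent E y)
    (hfrac : ∀ z : L, ∃ P ∈ Algebra.adjoin E (Set.range y), ∃ Q ∈ Algebra.adjoin E (Set.range y),
      Q ≠ 0 ∧ z * Q = P)
    (G : Subgroup (L ≃ₐ[k] L)) [Finite G]
    (hE : ∀ σ ∈ G, ∀ e ∈ E, σ e ∈ E)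
    (hy' : ∀ σ ∈ G, ∀ i, σ (y i) ∈ Submodule.span E (Set.range y))
    (hfaith : ∀ σ ∈ G, (∀ e ∈ E, σ e = e) → σ = 1) :
    ∃ t : ι → L, AlgebraicIndependent (↥(E ⊓ IntermediateField.fixedField G)) t ∧
      IntermediateField.restrictScalars k
        (IntermediateField.adjoin (↥(E ⊓ IntermediateField.fixedField G)) (Set.range t)) =
        IntermediateField.fixedField G := by
  classical
  cases nonempty_fintype ι
  cases nonempty_fintype G
  set Fx := IntermediateField.fixedField G with hFx
  have hmemFx : ∀ z : L, z ∈ Fx ↔ ∀ σ ∈ G, σ z = z := fun z => IntermediateField.mem_fixedField_iff G z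
  set W : Submodule E L := Submodule.span E (Set.range y) with hW
  -- the action on `E`
  let r : ∀ σ : G, E → E := fun σ e => ⟨(σ : L ≃ₐ[k] L) e, hE σ σ.2 e e.2⟩
  let rH : ∀ σ : G, E →+* E := fun σ =>
    { toFun := r σ
      map_one' := Subtype.ext (by simp [r])
      map_mul' := fun a b => Subtype.ext (by simp [r])
      map_zero' := Subtype.ext (by simp [r])
      map_add' := fun a b => Subtype.ext (by simp [r]) }
  have hWstab : ∀ σ ∈ G, ∀ w ∈ W, σ w ∈ W := by
    intro σ hσ w hw
    induction hw using Submodule.span_induction with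
    | mem x hx => obtain ⟨i, rfl⟩ := hx; exact hy' σ hσ i
    | zero => rw [map_zero]; exact W.zero_mem
    | add a b _ _ ha hb => rw [map_add]; exact W.add_mem ha hb
    | smul c a _ ha =>
      rw [IntermediateField.smul_def, smul_eq_mul, map_mul]
      exact W.smul_mem ⟨σ c, hE σ hσ c c.2⟩ ha
  -- fixed vectors span
  let S : Set L := {w | w ∈ W ∧ w ∈ Fx}
  have hspan : W ≤ Submodule.span E S := by
    intro w hw
    by_contra hne
    obtain ⟨φ, hφ, hle⟩ := Submodule.exists_le_ker_of_notMem hne
    have hinj : Function.Injective (fun σ : G => (((algebraMap E L).comp (rH σ)) : E →* L)) := by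
      intro σ τ h
      have h' : (τ⁻¹ * σ : G) = 1 := by
        refine Subtype.ext (hfaith _ (τ⁻¹ * σ).2 fun e he => ?_)
        have h1 : (σ : L ≃ₐ[k] L) e = (τ : L ≃ₐ[k] L) e := DFunLike.congr_fun h ⟨e, he⟩
        change (τ : L ≃ₐ[k] L).symm ((σ : L ≃ₐ[k] L) e) = e
        rw [h1, AlgEquiv.symm_apply_apply]
      exact (inv_mul_eq_one.1 h').symm
    have hli := (linearIndependent_monoidHom E L).comp _ hinj
    have hz := Fintype.linearIndependent_iff.1 hli (fun σ : G => ((φ ((σ : L ≃ₐ[k] L) w) : E) : L)) (by
      funext c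
      have hsum : ∑ σ : G, (σ : L ≃ₐ[k] L) (c • w) ∈ Submodule.span E S := by
        refine Submodule.subset_span ⟨W.sum_mem fun σ _ => hWstab σ σ.2 _ (W.smul_mem c hw), ?_⟩
        rw [hmemFx]
        intro τ hτ
        rw [map_sum]
        exact Fintype.sum_equiv (Equiv.mulLeft (⟨τ, hτ⟩ : G)) _ _ fun σ => rfl
      have h0 : φ (∑ σ : G, (σ : L ≃ₐ[k] L) (c • w)) = 0 := hle hsum
      have hterm : ∀ σ : G, (σ : L ≃ₐ[k] L) (c • w) = r σ c • (σ : L ≃ₐ[k] L) w := fun σ => by
        simp [r, IntermediateField.smul_def]
      simp only [hterm, map_sum, map_smul] at h0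
      have := congrArg Subtype.val h0
      simp only [Finset.sum_apply, Pi.smul_apply, smul_eq_mul, Pi.zero_apply, Function.comp_apply]
      simpa [rH, r, mul_comm] using this) 1
    exact hφ (Subtype.ext hz)
  obtain ⟨b, hbS, hbspan, hbli⟩ := exists_linearIndependent E S
  have hWb : Submodule.span E b = W := by
    rw [hbspan]
    exact le_antisymm (Submodule.span_le.2 fun s hs => hs.1) hspan
  have hyli : LinearIndependent E y := hy.linearIndependent
  haveI : FiniteDimensional E W := FiniteDimensional.span_of_finite E (Set.finite_range y)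
  have hbW : ∀ x : b, (x : L) ∈ W := fun x => (hbS x.2).1
  haveI : Finite b := by
    have hli' : LinearIndependent E (fun x : b => (⟨x, hbW x⟩ : W)) :=
      LinearIndependent.of_comp W.subtype hbli
    exact hli'.finite
  haveI : Fintype b := Fintype.ofFinite b
  have hcard : Fintype.card b = Fintype.card ι := by
    have h1 := finrank_span_eq_card hbli
    rw [Subtype.range_coe, hWb, finrank_span_eq_card hyli] at h1
    exact h1.symm
  let eb : ι ≃ b := (Fintype.equivOfCardEq hcard).symm
  let t : ι → L := fun i => eb i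
  have htr : Set.range t = b := by
    rw [show t = Subtype.val ∘ eb from rfl, eb.surjective.range_comp, Subtype.range_coe]
  have htW : Submodule.span E (Set.range t) = W := by rw [htr, hWb]
  have htfix : ∀ i, t i ∈ Fx := fun i => (hbS (eb i).2).2
  -- linear substitution
  have hA : ∀ i, ∃ c : ι → E, ∑ j, c j • y j = t i := fun i =>
    (Submodule.mem_span_range_iff_exists_fun E).1 (hW ▸ (hbS (eb i).2).1 : t i ∈ Submodule.span E (Set.range y))
  have hB : ∀ i, ∃ c : ι → E, ∑ j, c j • t j = y i := fun i =>
    (Submodule.mem_span_range_iff_exists_fun E).1 (htW.symm ▸ Submodule.subset_span ⟨i, rfl⟩)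
  choose A hA using hA
  choose B hB using hB
  let sA : MvPolynomial ι E →ₐ[E] MvPolynomial ι E :=
    MvPolynomial.aeval fun i => ∑ j, MvPolynomial.C (A i j) * MvPolynomial.X j
  let sB : MvPolynomial ι E →ₐ[E] MvPolynomial ι E :=
    MvPolynomial.aeval fun i => ∑ j, MvPolynomial.C (B i j) * MvPolynomial.X j
  have hsA : (MvPolynomial.aeval y).comp sA = MvPolynomial.aeval t := by
    refine MvPolynomial.algHom_ext fun i => ?_
    simp [sA, ← hA i, Algebra.smul_def]
  have hsB : (MvPolynomial.aeval t).comp sB = MvPolynomial.aeval y := by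
    refine MvPolynomial.algHom_ext fun i => ?_
    simp [sB, ← hB i, Algebra.smul_def]
  have hBA : sA.comp sB = AlgHom.id E _ := by
    refine MvPolynomial.algHom_ext fun i => hy ?_
    change ((MvPolynomial.aeval y).comp (sA.comp sB)) _ = _
    rw [← AlgHom.comp_assoc, hsA, hsB]
    rfl
  have hsBsurj : Function.Surjective sA := fun p => ⟨sB p, AlgHom.congr_fun hBA p⟩
  have hsAinj : Function.Injective sA := by
    have h : ∀ i, sB (sA (MvPolynomial.X i)) = MvPolynomial.X i := by
      intro i
      have hlin : LinearIndependent E t := by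
        refine (linearIndependent_equiv eb).2 hbli
      have e1 : ∑ j, (∑ l, A i l * B l j) • t j = ∑ j, (if j = i then (1 : E) else 0) • t j := by
        simp only [Finset.sum_smul, mul_smul, ite_smul, one_smul, zero_smul, Finset.sum_ite_eq',
          Finset.mem_univ, if_true]
        rw [Finset.sum_comm]
        simp only [← Finset.smul_sum, hB, hA]
      have e2 := Fintype.linearIndependent_iff.1 hlin
        (fun j => (∑ l, A i l * B l j) - (if j = i then (1 : E) else 0))
        (by simp only [sub_smul, Finset.sum_sub_distrib, e1, sub_self])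
      calc sB (sA (MvPolynomial.X i))
          = ∑ l, MvPolynomial.C (A i l) * ∑ j, MvPolynomial.C (B l j) * MvPolynomial.X j := by
            simp [sA, sB]
        _ = ∑ j, MvPolynomial.C (∑ l, A i l * B l j) * MvPolynomial.X j := by
            simp only [Finset.mul_sum, map_sum, map_mul, Finset.sum_mul, mul_assoc]
            rw [Finset.sum_comm]
        _ = _ := by simp [sub_eq_zero.1 (e2 _), apply_ite MvPolynomial.C, ite_mul]
    have : sB.comp sA = AlgHom.id E _ := MvPolynomial.algHom_ext h
    exact fun p q hpq => by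
      have := congrArg sB hpq
      simpa only [← AlgHom.comp_apply, ‹sB.comp sA = _›, AlgHom.id_apply] using this
  have ht : AlgebraicIndependent E t := by
    rw [algebraicIndependent_iff_injective_aeval, ← hsA]
    exact (algebraicIndependent_iff_injective_aeval.1 hy).comp hsAinj
  have hadj : Algebra.adjoin E (Set.range y) ≤ Algebra.adjoin E (Set.range t) := by
    refine Algebra.adjoin_le ?_
    rintro _ ⟨i, rfl⟩
    rw [SetLike.mem_coe, ← hB i]
    exact Subalgebra.sum_mem _ fun j _ =>
      Subalgebra.smul_mem _ (Algebra.subset_adjoin (Set.mem_range_self j)) _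
  set F := E ⊓ Fx with hF
  have htF : AlgebraicIndependent F t := by
    rw [algebraicIndependent_iff_injective_aeval]
    let j : F →+* E := (IntermediateField.inclusion (inf_le_left : F ≤ E)).toRingHom
    have hfac : ∀ p, MvPolynomial.aeval t p = MvPolynomial.aeval t (MvPolynomial.map j p) := fun p => by
      rw [MvPolynomial.aeval_def, MvPolynomial.aeval_def, MvPolynomial.eval₂_map]
      rfl
    intro p q hpq
    rw [hfac p, hfac q] at hpq
    exact MvPolynomial.map_injective j j.injective (ht hpq)
  refine ⟨t, htF, le_antisymm ?_ ?_⟩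
  · let Fx' : IntermediateField F L := IntermediateField.extendScalars (inf_le_right : F ≤ Fx)
    intro z hz
    have hle : IntermediateField.adjoin F (Set.range t) ≤ Fx' := by
      rw [IntermediateField.adjoin_le_iff]
      rintro _ ⟨i, rfl⟩
      exact htfix i
    exact hle hz
  · intro z hz
    obtain ⟨P, hP, Q, hQ, hQ0, hzQ⟩ := hfrac z
    let R := Algebra.adjoin E (Set.range t)
    have hRstab : ∀ σ ∈ G, ∀ x ∈ R, σ x ∈ R := by
      intro σ hσ x hx
      induction hx using Algebra.adjoin_induction with
      | mem x hx =>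
        obtain ⟨i, rfl⟩ := hx
        rw [(hmemFx _).1 (htfix i) σ hσ]
        exact Algebra.subset_adjoin ⟨i, rfl⟩
      | algebraMap e => exact R.algebraMap_mem ⟨σ e, hE σ hσ e e.2⟩
      | add a b _ _ ha hb => rw [map_add]; exact R.add_mem ha hb
      | mul a b _ _ ha hb => rw [map_mul]; exact R.mul_mem ha hb
    let N : L := ∏ σ : G, (σ : L ≃ₐ[k] L) Q
    have hNfix : N ∈ Fx := by
      rw [hmemFx]
      intro τ hτ
      rw [map_prod]
      exact Fintype.prod_equiv (Equiv.mulLeft (⟨τ, hτ⟩ : G)) _ _ fun σ => rfl
    have hN0 : N ≠ 0 := Finset.prod_ne_zero_iff.2 fun σ _ => by simpa using hQ0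
    have hNR : N ∈ R := R.prod_mem fun σ _ => hRstab σ σ.2 Q (hadj hQ)
    have hzNR : z * N ∈ R := by
      rw [show N = Q * ∏ σ ∈ (Finset.univ : Finset G).erase 1, (σ : L ≃ₐ[k] L) Q from
        (Finset.mul_prod_erase Finset.univ (fun σ : G => (σ : L ≃ₐ[k] L) Q) (Finset.mem_univ 1)).symm,
        ← mul_assoc, hzQ]
      exact R.mul_mem (hadj hP) (R.prod_mem fun σ _ => hRstab σ σ.2 Q (hadj hQ))
    have key : ∀ x ∈ R, x ∈ Fx → x ∈ IntermediateField.adjoin F (Set.range t) := by
      intro x hx hxf
      obtain ⟨p, hp⟩ : x ∈ (MvPolynomial.aeval t : MvPolynomial ι E →ₐ[E] L).range := by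
        rw [← Algebra.adjoin_range_eq_range_aeval]; exact hx
      change MvPolynomial.aeval t p = x at hp
      subst hp
      have hcoef : ∀ m, ((p.coeff m : E) : L) ∈ Fx := by
        intro m
        rw [hmemFx]
        intro σ hσ
        have h : MvPolynomial.map (rH ⟨σ, hσ⟩) p = p := by
          apply ht
          refine Eq.trans ?_ ((hmemFx _).1 hxf σ hσ)
          rw [MvPolynomial.aeval_def, MvPolynomial.eval₂_map, MvPolynomial.aeval_def]
          change _ = (σ : L →+* L) (MvPolynomial.eval₂ _ t p)
          rw [MvPolynomial.eval₂_comp_left]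
          congr 1
          funext i
          exact ((hmemFx _).1 (htfix i) σ hσ).symm
        have := congrArg (fun q => ((MvPolynomial.coeff m q : E) : L)) h
        rw [MvPolynomial.coeff_map] at this
        exact this
      rw [MvPolynomial.as_sum p, map_sum]
      refine IntermediateField.sum_mem _ fun m _ => ?_
      rw [MvPolynomial.aeval_monomial]
      refine IntermediateField.mul_mem _ ?_ (IntermediateField.prod_mem _ fun i _ =>
        _root_.pow_mem (IntermediateField.subset_adjoin F (Set.range t) (Set.mem_range_self i)) (m i))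
      exact IntermediateField.algebraMap_mem _ (⟨_, (p.coeff m).2, hcoef m⟩ : F)
    have hzN := key _ hzNR (Fx.mul_mem hz hNfix)
    have hN := key _ hNR hNfix
    rw [IntermediateField.mem_restrictScalars]
    rw [← mul_div_cancel_right₀ z hN0]
    exact IntermediateField.div_mem _ hzN hN

end InvFldH7
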