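import Mathlib
import Groth.Prelude.Def_W4c2brnrinvarInvFld
import Groth.Agent.InvFldH7.Basic

/-! Fields of invariants of two linear representations of one group are stably equivalent. -/

set_option autoImplicit false
set_option backward.isDefEq.respectTransparency false

universe u v w

open InvFld

namespace InvFldH7

variable {k : Type u} [Field k]

/-- A group acting linearly on the variables acts on the polynomial ring. -/
lemma exists_poly_lift {σ : Type v} [Finite σ] (G : Subgroup (Fld σ k ≃ₐ[k] Fld σ k))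
    (hG : ∀ g ∈ G, ∀ i, g (X i) ∈ Submodule.span k (Set.range fun j => (X j : Fld σ k))) :
    ∃ q : G → (MvPolynomial σ k →ₐ[k] MvPolynomial σ k),
      (∀ (g : G) p, algebraMap _ (Fld σ k) (q g p) = (g : Fld σ k ≃ₐ[k] Fld σ k) (algebraMap _ _ p)) ∧
      ∀ (g : G) i, q g (MvPolynomial.X i) ∈ Submodule.span k (Set.range (MvPolynomial.X : σ → MvPolynomial σ k)) := by
  classical
  let l : MvPolynomial σ k →ₐ[k] Fld σ k := IsScalarTower.toAlgHom k _ _
  have h : ∀ (g : G) (i : σ), ∃ p ∈ Submodule.span k (Set.range (MvPolynomial.X : σ → MvPolynomial σ k)),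
      l p = (g : Fld σ k ≃ₐ[k] Fld σ k) (X i) := by
    intro g i
    have h1 := hG g g.2 i
    have h2 : (Set.range fun j => (X j : Fld σ k)) = l.toLinearMap '' Set.range (MvPolynomial.X) := by
      rw [← Set.range_comp]; rfl
    rw [h2, Submodule.span_image] at h1
    exact h1
  choose P hP hP' using h
  refine ⟨fun g => MvPolynomial.aeval (P g), fun g p => ?_, fun g i => by rw [MvPolynomial.aeval_X]; exact hP g i⟩
  have : l.comp (MvPolynomial.aeval (P g)) = (g : Fld σ k ≃ₐ[k] Fld σ k).toAlgHom.comp l := by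
    refine MvPolynomial.algHom_ext fun i => ?_
    rw [AlgHom.comp_apply, MvPolynomial.aeval_X, hP']
    rfl
  exact AlgHom.congr_fun this p

variable {n m : ℕ}

lemma exists_joint (G : Subgroup (Fld (Fin n) k ≃ₐ[k] Fld (Fin n) k)) [Finite G]
    (H : Subgroup (Fld (Fin m) k ≃ₐ[k] Fld (Fin m) k)) [Finite H] (e : G ≃* H)
    (hG : ∀ σ ∈ G, ∀ i : Fin n, σ (X i) ∈ Submodule.span k (Set.range fun j : Fin n => (X j : Fld (Fin n) k)))
    (hH : ∀ τ ∈ H, ∀ i : Fin m, τ (X i) ∈ Submodule.span k (Set.range fun j : Fin m => (X j : Fld (Fin m) k)))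
    (ix : Fld (Fin n) k →ₐ[k] Fld (Fin n ⊕ Fin m) k) (hix : ∀ i, ix (X i) = X (Sum.inl i))
    (iy : Fld (Fin m) k →ₐ[k] Fld (Fin n ⊕ Fin m) k) (hiy : ∀ j, iy (X j) = X (Sum.inr j)) :
    ∃ Ψ : G →* (Fld (Fin n ⊕ Fin m) k ≃ₐ[k] Fld (Fin n ⊕ Fin m) k),
      (∀ (g : G) z, Ψ g (ix z) = ix ((g : Fld (Fin n) k ≃ₐ[k] Fld (Fin n) k) z)) ∧
      ∀ (g : G) z, Ψ g (iy z) = iy ((e g : Fld (Fin m) k ≃ₐ[k] Fld (Fin m) k) z) := by
  classical
  obtain ⟨q, hq, hq'⟩ := exists_poly_lift G hG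
  obtain ⟨q', hq1, hq1'⟩ := exists_poly_lift H hH
  let P := MvPolynomial (Fin n ⊕ Fin m) k
  let l : P →ₐ[k] Fld (Fin n ⊕ Fin m) k := IsScalarTower.toAlgHom k _ _
  have hl : Function.Injective l := IsFractionRing.injective P _
  let Φ : G → (P →ₐ[k] P) := fun g => MvPolynomial.aeval (Sum.elim
    (fun i => MvPolynomial.rename Sum.inl (q g (MvPolynomial.X i)))
    (fun j => MvPolynomial.rename Sum.inr (q' (e g) (MvPolynomial.X j))))
  have hxp : ∀ p : MvPolynomial (Fin n) k, ix (algebraMap (MvPolynomial (Fin n) k) (Fld (Fin n) k) p) = l (MvPolynomial.rename Sum.inl p) := by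
    intro p
    exact AlgHom.congr_fun (MvPolynomial.algHom_ext
      (f := ix.comp (IsScalarTower.toAlgHom k (MvPolynomial (Fin n) k) (Fld (Fin n) k))) (g := l.comp (MvPolynomial.rename Sum.inl))
      (fun i => by rw [AlgHom.comp_apply, AlgHom.comp_apply, MvPolynomial.rename_X]; exact hix i)) p
  have hyp : ∀ p : MvPolynomial (Fin m) k, iy (algebraMap (MvPolynomial (Fin m) k) (Fld (Fin m) k) p) = l (MvPolynomial.rename Sum.inr p) := by
    intro p
    exact AlgHom.congr_fun (MvPolynomial.algHom_ext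
      (f := iy.comp (IsScalarTower.toAlgHom k (MvPolynomial (Fin m) k) (Fld (Fin m) k))) (g := l.comp (MvPolynomial.rename Sum.inr))
      (fun i => by rw [AlgHom.comp_apply, AlgHom.comp_apply, MvPolynomial.rename_X]; exact hiy i)) p
  have hΦx : ∀ (g : G) p, Φ g (MvPolynomial.rename Sum.inl p) = MvPolynomial.rename Sum.inl (q g p) := fun g p =>
    AlgHom.congr_fun (MvPolynomial.algHom_ext (f := (Φ g).comp (MvPolynomial.rename Sum.inl))
      (g := (MvPolynomial.rename Sum.inl).comp (q g)) (fun i => by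
      rw [AlgHom.comp_apply, AlgHom.comp_apply, MvPolynomial.rename_X]
      exact MvPolynomial.aeval_X _ _)) p
  have hΦy : ∀ (g : G) p, Φ g (MvPolynomial.rename Sum.inr p) = MvPolynomial.rename Sum.inr (q' (e g) p) :=
    fun g p => AlgHom.congr_fun (MvPolynomial.algHom_ext (f := (Φ g).comp (MvPolynomial.rename Sum.inr))
      (g := (MvPolynomial.rename Sum.inr).comp (q' (e g))) (fun i => by
      rw [AlgHom.comp_apply, AlgHom.comp_apply, MvPolynomial.rename_X]
      exact MvPolynomial.aeval_X _ _)) p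
  have hqm : ∀ g h p, q (g * h) p = q g (q h p) := by
    intro g h p
    apply IsFractionRing.injective (MvPolynomial (Fin n) k) (Fld (Fin n) k)
    rw [hq, hq, hq]
    rfl
  have hqm' : ∀ g h p, q' (g * h) p = q' g (q' h p) := by
    intro g h p
    apply IsFractionRing.injective (MvPolynomial (Fin m) k) (Fld (Fin m) k)
    rw [hq1, hq1, hq1]
    rfl
  have hq0 : ∀ p, q 1 p = p := by
    intro p
    apply IsFractionRing.injective (MvPolynomial (Fin n) k) (Fld (Fin n) k)
    rw [hq]; rfl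
  have hq0' : ∀ p, q' 1 p = p := by
    intro p
    apply IsFractionRing.injective (MvPolynomial (Fin m) k) (Fld (Fin m) k)
    rw [hq1]; rfl
  have hone : Φ 1 = AlgHom.id k P := by
    refine MvPolynomial.algHom_ext fun i => ?_
    rcases i with i | j
    · have := hΦx 1 (MvPolynomial.X i)
      rw [AlgHom.id_apply]; simpa [hq0] using this
    · have := hΦy 1 (MvPolynomial.X j)
      rw [AlgHom.id_apply]; simpa [hq0'] using this
  have hmul : ∀ g h, Φ (g * h) = (Φ g).comp (Φ h) := by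
    intro g h
    refine MvPolynomial.algHom_ext fun i => ?_
    rcases i with i | j
    · have h1 := hΦx (g * h) (MvPolynomial.X i)
      have h2 := hΦx h (MvPolynomial.X i)
      simp only [MvPolynomial.rename_X] at h1 h2
      rw [AlgHom.comp_apply, h1, h2, hΦx, hqm]
    · have h1 := hΦy (g * h) (MvPolynomial.X j)
      have h2 := hΦy h (MvPolynomial.X j)
      simp only [MvPolynomial.rename_X] at h1 h2
      rw [AlgHom.comp_apply, h1, h2, hΦy, map_mul, hqm']
  let E : G → (P ≃ₐ[k] P) := fun g => AlgEquiv.ofAlgHom (Φ g) (Φ g⁻¹)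
    (by rw [← hmul, mul_inv_cancel, hone]) (by rw [← hmul, inv_mul_cancel, hone])
  have hE : ∀ g h, E (g * h) = E g * E h := fun g h => AlgEquiv.ext fun p =>
    AlgHom.congr_fun (hmul g h) p
  let Ψ₀ : G → (Fld (Fin n ⊕ Fin m) k ≃ₐ[k] Fld (Fin n ⊕ Fin m) k) := fun g =>
    IsFractionRing.algEquivOfAlgEquiv (E g)
  have hΨl : ∀ g p, Ψ₀ g (l p) = l (Φ g p) := fun g p => IsFractionRing.algEquivOfAlgEquiv_algebraMap _ p
  let Ψ : G →* (Fld (Fin n ⊕ Fin m) k ≃ₐ[k] Fld (Fin n ⊕ Fin m) k) := MonoidHom.mk' Ψ₀ (fun g h => by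
    refine AlgEquiv.coe_algHom_injective (IsLocalization.algHom_ext (nonZeroDivisors P) ?_)
    refine AlgHom.ext fun p => ?_
    change Ψ₀ (g * h) (l p) = Ψ₀ g (Ψ₀ h (l p))
    rw [hΨl, hΨl, hΨl, hmul]
    rfl)
  refine ⟨Ψ, fun g z => ?_, fun g z => ?_⟩
  · refine AlgHom.congr_fun (IsLocalization.algHom_ext (nonZeroDivisors (MvPolynomial (Fin n) k))
      (f := (Ψ g).toAlgHom.comp ix) (g := ix.comp (g : Fld (Fin n) k ≃ₐ[k] Fld (Fin n) k).toAlgHom)
      (AlgHom.ext fun p => ?_)) z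
    change Ψ₀ g (ix (algebraMap (MvPolynomial (Fin n) k) (Fld (Fin n) k) p)) = ix ((g : Fld (Fin n) k ≃ₐ[k] Fld (Fin n) k) (algebraMap (MvPolynomial (Fin n) k) (Fld (Fin n) k) p))
    rw [hxp, hΨl, hΦx, ← hq, hxp]
  · refine AlgHom.congr_fun (IsLocalization.algHom_ext (nonZeroDivisors (MvPolynomial (Fin m) k))
      (f := (Ψ g).toAlgHom.comp iy) (g := iy.comp (e g : Fld (Fin m) k ≃ₐ[k] Fld (Fin m) k).toAlgHom)
      (AlgHom.ext fun p => ?_)) z
    change Ψ₀ g (iy (algebraMap (MvPolynomial (Fin m) k) (Fld (Fin m) k) p)) = iy ((e g : Fld (Fin m) k ≃ₐ[k] Fld (Fin m) k) (algebraMap (MvPolynomial (Fin m) k) (Fld (Fin m) k) p))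
    rw [hyp, hΨl, hΦy, ← hq1, hyp]

end InvFldH7
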