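import Mathlib
import Groth.Prelude.Def_W4c2brnrinvarInvFld

/-! The field of symmetric rational functions is rational. -/

set_option autoImplicit false

universe u v w

open InvFld

namespace InvFldH7

variable {k : Type u} [Field k]

theorem exists_perm_model (n : ℕ) :
    ∃ (H : Subgroup (Fld (Fin n) k ≃ₐ[k] Fld (Fin n) k)) (_ : Finite H),
      Nonempty (Equiv.Perm (Fin n) ≃* H) ∧
      (∀ τ ∈ H, ∀ i : Fin n, τ (X i) ∈ Submodule.span k (Set.range fun j : Fin n => (X j : Fld (Fin n) k))) ∧
      Nonempty (IntermediateField.fixedField H ≃ₐ[k] Fld (Fin n) k) := by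
  classical
  let P := MvPolynomial (Fin n) k
  let L := Fld (Fin n) k
  let a : P →ₐ[k] L := IsScalarTower.toAlgHom k P L
  have ha : Function.Injective a := IsFractionRing.injective P L
  let ρ₀ : Equiv.Perm (Fin n) → (L ≃ₐ[k] L) := fun π =>
    IsFractionRing.algEquivOfAlgEquiv (MvPolynomial.renameEquiv k π)
  have hρa : ∀ π (p : P), ρ₀ π (a p) = a (MvPolynomial.rename π p) := fun π p =>
    IsFractionRing.algEquivOfAlgEquiv_algebraMap _ p
  let ρ : Equiv.Perm (Fin n) →* (L ≃ₐ[k] L) := MonoidHom.mk' ρ₀ (fun π π' => by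
    refine AlgEquiv.coe_toAlgHom_injective (IsLocalization.algHom_ext (nonZeroDivisors P) ?_)
    refine AlgHom.ext fun p => ?_
    change ρ₀ (π * π') (a p) = ρ₀ π (ρ₀ π' (a p))
    rw [hρa, hρa, hρa, MvPolynomial.rename_rename]
    rfl)
  have hinj : Function.Injective ρ := by
    intro π π' h
    refine Equiv.ext fun i => MvPolynomial.X_injective (R := k) (ha ?_)
    have h' : ρ₀ π (a (MvPolynomial.X i)) = ρ₀ π' (a (MvPolynomial.X i)) := DFunLike.congr_fun h _
    rwa [hρa, hρa, MvPolynomial.rename_X, MvPolynomial.rename_X] at h'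
  refine ⟨ρ.range, (Set.finite_range ρ).to_subtype, ⟨MonoidHom.ofInjective hinj⟩, ?_, ?_⟩
  · rintro _ ⟨π, rfl⟩ i
    refine Submodule.subset_span ⟨π i, ?_⟩
    change a (MvPolynomial.X (π i)) = ρ₀ π (a (MvPolynomial.X i))
    rw [hρa, MvPolynomial.rename_X]
  let es : MvPolynomial (Fin n) k →ₐ[k] P :=
    (MvPolynomial.symmetricSubalgebra (Fin n) k).val.comp (MvPolynomial.esymmAlgHom (Fin n) k n)
  have hes : Function.Injective es := Subtype.val_injective.comp
    (MvPolynomial.esymmAlgHom_injective k (by simp))
  have hae : Function.Injective (a.comp es : P →ₐ[k] L) := ha.comp hes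
  let g : L →ₐ[k] L := IsFractionRing.liftAlgHom (g := a.comp es) hae
  have hg : ∀ q : P, g (a q) = a (es q) := fun q =>
    IsFractionRing.lift_algebraMap (A := P) (K := L) (g := (a.comp es).toRingHom) hae q
  have hsym : ∀ p : P, (∀ π : Equiv.Perm (Fin n), MvPolynomial.rename π p = p) → a p ∈ g.fieldRange := by
    intro p hp
    obtain ⟨q, hq⟩ := MvPolynomial.esymmAlgHom_surjective k (σ := Fin n) (n := n) (by simp) ⟨p, hp⟩
    refine ⟨a q, ?_⟩
    change g (a q) = a p
    rw [hg]
    exact congrArg a (congrArg Subtype.val hq)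
  have hfix : IntermediateField.fixedField ρ.range = g.fieldRange := by
    refine le_antisymm ?_ ?_
    · intro z hz
      rw [IntermediateField.mem_fixedField_iff] at hz
      obtain ⟨p, q, hq, rfl⟩ := IsFractionRing.div_surjective (A := P) z
      have hq0 : q ≠ 0 := nonZeroDivisors.ne_zero hq
      let Q : P := ∏ π : Equiv.Perm (Fin n), MvPolynomial.rename π q
      have hQ : ∀ π : Equiv.Perm (Fin n), MvPolynomial.rename π Q = Q := by
        intro π
        simp only [Q, map_prod, MvPolynomial.rename_rename]
        exact Fintype.prod_equiv (Equiv.mulLeft π) _ _ fun π' => rfl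
      have hQ0 : Q ≠ 0 := Finset.prod_ne_zero_iff.2 fun π _ h =>
        hq0 (MvPolynomial.rename_injective _ π.injective (by rw [h, map_zero]))
      let N : P := p * ∏ π ∈ Finset.univ.erase (1 : Equiv.Perm (Fin n)), MvPolynomial.rename π q
      have hN : a N = (a p / a q) * a Q := by
        have : Q = q * ∏ π ∈ Finset.univ.erase (1 : Equiv.Perm (Fin n)), MvPolynomial.rename π q := by
          simp only [Q]
          rw [← Finset.mul_prod_erase Finset.univ (fun π : Equiv.Perm (Fin n) => MvPolynomial.rename π q)
            (Finset.mem_univ 1)]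
          simp
        simp only [N]
        rw [this, map_mul, map_mul, ← mul_assoc,
          div_mul_cancel₀ _ (fun h => hq0 (ha (h.trans (map_zero a).symm)))]
      have hNs : ∀ π : Equiv.Perm (Fin n), MvPolynomial.rename π N = N := by
        intro π
        apply ha
        rw [← hρa, hN, map_mul, hρa π Q, hQ]
        congr 1
        exact hz _ ⟨π, rfl⟩
      have : a p / a q = a N / a Q := by
        rw [hN, mul_div_cancel_right₀]
        exact fun h => hQ0 (ha (h.trans (map_zero a).symm))
      change a p / a q ∈ g.fieldRange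
      rw [this]
      exact IntermediateField.div_mem _ (hsym N hNs) (hsym Q hQ)
    · rintro _ ⟨z, rfl⟩
      refine (IntermediateField.mem_fixedField_iff _ _).2 ?_
      rintro _ ⟨π, rfl⟩
      refine AlgHom.congr_fun (IsLocalization.algHom_ext (nonZeroDivisors P)
        (f := (ρ π : L ≃ₐ[k] L).toAlgHom.comp g) (g := g) (AlgHom.ext fun q => ?_)) z
      change ρ₀ π (g (a q)) = g (a q)
      rw [hg, hρa]
      exact congrArg a ((MvPolynomial.esymmAlgHom (Fin n) k n q).2 π)
  exact ⟨(IntermediateField.equivOfEq hfix).trans (AlgEquiv.ofInjectiveField g).symm⟩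

theorem exists_pure (n m : ℕ) :
    ∃ t : Fin (n + m) → Fld (Fin m) (Fld (Fin n) k),
      AlgebraicIndependent k t ∧ IntermediateField.adjoin k (Set.range t) = ⊤ := by
  classical
  let F := Fld (Fin n) k
  let L := Fld (Fin m) F
  have hx : AlgebraicIndependent k (X : Fin n → F) :=
    (MvPolynomial.algebraicIndependent_X (Fin n) k).map'
      (f := IsScalarTower.toAlgHom k (MvPolynomial (Fin n) k) F)
      (IsFractionRing.injective (MvPolynomial (Fin n) k) F)
  have hy : AlgebraicIndependent F (X : Fin m → L) :=
    (MvPolynomial.algebraicIndependent_X (Fin m) F).map'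
      (f := IsScalarTower.toAlgHom F (MvPolynomial (Fin m) F) L)
      (IsFractionRing.injective (MvPolynomial (Fin m) F) L)
  let T : Fin m ⊕ Fin n → L := Sum.elim X (algebraMap F L ∘ X)
  have hT : AlgebraicIndependent k T := AlgebraicIndependent.sumElim_comp hx hy
  let e : Fin (n + m) ≃ Fin m ⊕ Fin n := finSumFinEquiv.symm.trans (Equiv.sumComm _ _)
  refine ⟨T ∘ e, hT.comp e e.injective, ?_⟩
  rw [e.surjective.range_comp, eq_top_iff]
  intro z _
  set A := IntermediateField.adjoin k (Set.range T) with hA
  have hF : ∀ c : F, algebraMap F L c ∈ A := by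
    intro c
    obtain ⟨p, q, hq, rfl⟩ := IsFractionRing.div_surjective (A := MvPolynomial (Fin n) k) c
    have hp : ∀ p : MvPolynomial (Fin n) k, algebraMap F L (algebraMap _ F p) ∈ A := by
      intro p
      induction p using MvPolynomial.induction_on with
      | C a =>
        rw [← MvPolynomial.algebraMap_eq, ← IsScalarTower.algebraMap_apply, ← IsScalarTower.algebraMap_apply]
        exact A.algebraMap_mem a
      | add a b ha hb => rw [map_add, map_add]; exact A.add_mem ha hb
      | mul_X a i ha =>
        rw [map_mul, map_mul]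
        exact A.mul_mem ha (IntermediateField.subset_adjoin k _ ⟨Sum.inr i, rfl⟩)
    rw [map_div₀]
    exact A.div_mem (hp p) (hp q)
  obtain ⟨p, q, hq, rfl⟩ := IsFractionRing.div_surjective (A := MvPolynomial (Fin m) F) z
  have hp : ∀ p : MvPolynomial (Fin m) F, algebraMap _ L p ∈ A := by
    intro p
    induction p using MvPolynomial.induction_on with
    | C a =>
      rw [← MvPolynomial.algebraMap_eq, ← IsScalarTower.algebraMap_apply]
      exact hF a
    | add a b ha hb => rw [map_add]; exact A.add_mem ha hb
    | mul_X a i ha =>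
      rw [map_mul]
      exact A.mul_mem ha (IntermediateField.subset_adjoin k _ ⟨Sum.inl i, rfl⟩)
  exact A.div_mem (hp p) (hp q)

end InvFldH7
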