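import Mathlib
import Groth.Prelude.Def_W4c2brnrinvarInvFld
import Groth.Agent.InvFldH7.Basic
import Groth.Agent.InvFldH7.Linear

/-! Stable equivalence of fields of invariants. -/

set_option autoImplicit false

universe u v w w'

open InvFld

namespace InvFldH7

variable {k : Type u} [Field k]

/-- Rational functions over `k`-isomorphic fields. -/
lemma fld_map {σ : Type w} {F : Type v} {F' : Type w'} [Field F] [Algebra k F] [Field F'] [Algebra k F']
    (e : F ≃ₐ[k] F') : Nonempty (Fld σ F ≃ₐ[k] Fld σ F') :=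
  ⟨IsFractionRing.algEquivOfAlgEquiv (MvPolynomial.mapAlgEquiv σ e)⟩

lemma fld_adjoin {L : Type v} [Field L] [Algebra k L] {σ : Type w} (F : IntermediateField k L)
    (t : σ → L) (ht : AlgebraicIndependent F t) :
    Nonempty (Fld σ F ≃ₐ[k]
      IntermediateField.restrictScalars k (IntermediateField.adjoin F (Set.range t))) :=
  ⟨(ht.aevalEquivField.restrictScalars k).trans
    { toFun := fun x => ⟨x.1, x.2⟩
      invFun := fun x => ⟨x.1, x.2⟩
      left_inv := fun _ => rfl
      right_inv := fun _ => rfl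
      map_mul' := fun _ _ => rfl
      map_add' := fun _ _ => rfl
      commutes' := fun _ => rfl }⟩

variable {n m : ℕ}

lemma side {L : Type v} [Field L] [Algebra k L] (ix : Fld (Fin n) k →ₐ[k] L) (y : Fin m → L)
    (hy : AlgebraicIndependent ix.fieldRange y)
    (hfrac : ∀ z : L, ∃ P ∈ Algebra.adjoin ix.fieldRange (Set.range y),
      ∃ Q ∈ Algebra.adjoin ix.fieldRange (Set.range y), Q ≠ 0 ∧ z * Q = P)
    (G : Subgroup (Fld (Fin n) k ≃ₐ[k] Fld (Fin n) k)) [Finite G]
    (Ψ : G →* (L ≃ₐ[k] L))
    (hΨ : ∀ (g : G) z, Ψ g (ix z) = ix ((g : Fld (Fin n) k ≃ₐ[k] Fld (Fin n) k) z))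
    (hy' : ∀ (g : G) i, Ψ g (y i) ∈ Submodule.span k (Set.range y)) :
    Nonempty (Fld (Fin m) (IntermediateField.fixedField G) ≃ₐ[k] IntermediateField.fixedField Ψ.range) := by
  classical
  haveI : Finite Ψ.range := Set.finite_range Ψ |>.to_subtype
  obtain ⟨t, ht, hadj⟩ := noName ix.fieldRange y hy hfrac Ψ.range
    (by rintro _ ⟨g, rfl⟩ e ⟨z, rfl⟩; exact ⟨_, (hΨ g z).symm⟩)
    (by rintro _ ⟨g, rfl⟩ i; exact Submodule.span_le_restrictScalars k _ _ (hy' g i))
    (by
      rintro _ ⟨g, rfl⟩ h
      have : g = 1 := by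
        refine Subtype.ext (AlgEquiv.ext fun z => ix.injective ?_)
        change ix _ = ix _
        rw [← hΨ]
        exact h _ ⟨z, rfl⟩
      rw [this, map_one])
  set F := ix.fieldRange ⊓ IntermediateField.fixedField Ψ.range with hF
  have hF' : F = (IntermediateField.fixedField G).map ix := by
    ext z
    constructor
    · rintro ⟨⟨w, rfl⟩, hz⟩
      refine ⟨w, ?_, rfl⟩
      change w ∈ IntermediateField.fixedField G
      rw [IntermediateField.mem_fixedField_iff]
      intro g hg
      apply ix.injective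
      exact (hΨ ⟨g, hg⟩ w).symm.trans ((IntermediateField.mem_fixedField_iff _ _).1 hz _ ⟨⟨g, hg⟩, rfl⟩)
    · rintro ⟨w, hw, rfl⟩
      refine ⟨⟨w, rfl⟩, (IntermediateField.mem_fixedField_iff _ _).2 ?_⟩
      rintro _ ⟨g, rfl⟩
      refine (hΨ g w).trans ?_
      rw [(IntermediateField.mem_fixedField_iff _ _).1 hw _ g.2]
      rfl
  obtain ⟨e1⟩ := fld_map (k := k) (σ := Fin m)
    (((IntermediateField.fixedField G).equivMap ix).trans (IntermediateField.equivOfEq hF'.symm))
  obtain ⟨e2⟩ := fld_adjoin F t ht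
  exact ⟨e1.trans (e2.trans (IntermediateField.equivOfEq hadj))⟩

theorem stablyEquiv (G : Subgroup (Fld (Fin n) k ≃ₐ[k] Fld (Fin n) k)) [Finite G]
    (H : Subgroup (Fld (Fin m) k ≃ₐ[k] Fld (Fin m) k)) [Finite H] (e : G ≃* H)
    (hG : ∀ σ ∈ G, ∀ i : Fin n, σ (X i) ∈ Submodule.span k (Set.range fun j : Fin n => (X j : Fld (Fin n) k)))
    (hH : ∀ τ ∈ H, ∀ i : Fin m, τ (X i) ∈ Submodule.span k (Set.range fun j : Fin m => (X j : Fld (Fin m) k))) :
    Nonempty (Fld (Fin m) (IntermediateField.fixedField G) ≃ₐ[k]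
      Fld (Fin n) (IntermediateField.fixedField H)) := by
  classical
  let L := Fld (Fin n ⊕ Fin m) k
  let P := MvPolynomial (Fin n ⊕ Fin m) k
  let l : P →ₐ[k] L := IsScalarTower.toAlgHom k P L
  have hl : Function.Injective l := IsFractionRing.injective P L
  have hl1 : Function.Injective (l.comp (MvPolynomial.rename Sum.inl) : MvPolynomial (Fin n) k →ₐ[k] L) :=
    hl.comp (MvPolynomial.rename_injective _ Sum.inl_injective)
  have hl2 : Function.Injective (l.comp (MvPolynomial.rename Sum.inr) : MvPolynomial (Fin m) k →ₐ[k] L) :=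
    hl.comp (MvPolynomial.rename_injective _ Sum.inr_injective)
  let ix : Fld (Fin n) k →ₐ[k] L := IsFractionRing.liftAlgHom hl1
  let iy : Fld (Fin m) k →ₐ[k] L := IsFractionRing.liftAlgHom hl2
  have hix : ∀ i, ix (X i) = X (Sum.inl i) := fun i => by
    simp only [ix, InvFld.X, IsFractionRing.liftAlgHom_apply, IsFractionRing.lift_algebraMap]
    rw [AlgHom.toRingHom_eq_coe, RingHom.coe_coe, AlgHom.comp_apply, MvPolynomial.rename_X]
    rfl
  have hiy : ∀ i, iy (X i) = X (Sum.inr i) := fun i => by
    simp only [iy, InvFld.X, IsFractionRing.liftAlgHom_apply, IsFractionRing.lift_algebraMap]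
    rw [AlgHom.toRingHom_eq_coe, RingHom.coe_coe, AlgHom.comp_apply, MvPolynomial.rename_X]
    rfl
  obtain ⟨Ψ, hΨx, hΨy⟩ := exists_joint G H e hG hH ix hix iy hiy
  have hall : AlgebraicIndependent k (InvFld.X : Fin n ⊕ Fin m → L) :=
    (MvPolynomial.algebraicIndependent_X (Fin n ⊕ Fin m) k).map' (f := l) hl
  have hrange : ∀ {p : ℕ} (i : Fld (Fin p) k →ₐ[k] L),
      i.fieldRange = IntermediateField.adjoin k (Set.range fun a => i (X a)) := by
    intro p i
    refine le_antisymm ?_ (IntermediateField.adjoin_le_iff.2 (by rintro _ ⟨a, rfl⟩; exact ⟨_, rfl⟩))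
    rintro _ ⟨z, rfl⟩
    obtain ⟨a, b, hb, rfl⟩ := IsFractionRing.div_surjective (A := MvPolynomial (Fin p) k) z
    have hpol : ∀ a : MvPolynomial (Fin p) k, i (algebraMap _ _ a) ∈
        IntermediateField.adjoin k (Set.range fun a => i (X a)) := by
      intro a
      induction a using MvPolynomial.induction_on with
      | C c =>
        rw [← MvPolynomial.algebraMap_eq, ← IsScalarTower.algebraMap_apply, AlgHom.commutes]
        exact IntermediateField.algebraMap_mem _ _
      | add a b ha hb => rw [map_add, map_add]; exact IntermediateField.add_mem _ ha hb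
      | mul_X a j ha =>
        rw [map_mul, map_mul]
        exact IntermediateField.mul_mem _ ha (IntermediateField.subset_adjoin k _ ⟨j, rfl⟩)
    change i _ ∈ _
    rw [map_div₀]
    exact IntermediateField.div_mem _ (hpol a) (hpol b)
  have hindx : AlgebraicIndependent ix.fieldRange (fun j => (X (Sum.inr j) : L)) := by
    rw [hrange ix]
    rw [show (fun a => ix (X a)) = fun a => (X (Sum.inl a) : L) from funext hix]
    refine IntermediateField.algebraicIndependent_adjoin_iff.2 (AlgebraicIndependent.sumElim_iff.1 ?_).2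
    have := hall.comp Sum.swap Sum.swap_leftInverse.injective
    convert this using 1
    ext (i | i) <;> rfl
  have hindy : AlgebraicIndependent iy.fieldRange (fun j => (X (Sum.inl j) : L)) := by
    rw [hrange iy]
    rw [show (fun a => iy (X a)) = fun a => (X (Sum.inr a) : L) from funext hiy]
    refine IntermediateField.algebraicIndependent_adjoin_iff.2 (AlgebraicIndependent.sumElim_iff.1 ?_).2
    convert hall using 1
    ext (i | i) <;> rfl
  have hfrac : ∀ (E : IntermediateField k L) (S : Set L),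
      (∀ s, (X s : L) ∈ E ∨ (X s : L) ∈ S) →
      ∀ z : L, ∃ A ∈ Algebra.adjoin E S, ∃ B ∈ Algebra.adjoin E S, B ≠ 0 ∧ z * B = A := by
    intro E S hS z
    have hpoly : ∀ p : P, algebraMap P L p ∈ Algebra.adjoin E S := by
      intro p
      induction p using MvPolynomial.induction_on with
      | C a =>
        rw [← MvPolynomial.algebraMap_eq, ← IsScalarTower.algebraMap_apply]
        exact Subalgebra.algebraMap_mem _ (⟨algebraMap k L a, E.algebraMap_mem a⟩ : E)
      | add a b ha hb => rw [map_add]; exact Subalgebra.add_mem _ ha hb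
      | mul_X a i ha =>
        rw [map_mul]
        refine Subalgebra.mul_mem _ ha ?_
        rcases hS i with h | h
        · exact Subalgebra.algebraMap_mem _ (⟨_, h⟩ : E)
        · exact Algebra.subset_adjoin h
    obtain ⟨p, q, hq, rfl⟩ := IsFractionRing.div_surjective (A := P) z
    have hq0 : algebraMap P L q ≠ 0 := IsFractionRing.to_map_ne_zero_of_mem_nonZeroDivisors hq
    exact ⟨_, hpoly p, _, hpoly q, hq0, div_mul_cancel₀ _ hq0⟩
  have hspan : ∀ {p : ℕ} (i : Fld (Fin p) k →ₐ[k] L) (z : Fld (Fin p) k),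
      z ∈ Submodule.span k (Set.range fun a => (X a : Fld (Fin p) k)) →
      i z ∈ Submodule.span k (Set.range fun a => i (X a)) := by
    intro p i z hz
    have := Submodule.mem_map_of_mem (f := i.toLinearMap) hz
    rw [Submodule.map_span, ← Set.range_comp] at this
    exact this
  obtain ⟨eG⟩ := side ix (fun j => (X (Sum.inr j) : L)) hindx
    (hfrac _ _ fun s => by
      rcases s with i | j
      · exact Or.inl ⟨X i, hix i⟩
      · exact Or.inr ⟨j, rfl⟩) G Ψ hΨx (fun g j => by
      have h := hspan iy _ (hH _ (e g).2 j)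
      rw [← hΨy, show (fun a => iy (X a)) = fun a => (X (Sum.inr a) : L) from funext hiy, hiy] at h
      exact h)
  obtain ⟨eH⟩ := side iy (fun j => (X (Sum.inl j) : L)) hindy
    (hfrac _ _ fun s => by
      rcases s with i | j
      · exact Or.inr ⟨i, rfl⟩
      · exact Or.inl ⟨X j, hiy j⟩) H (Ψ.comp e.symm.toMonoidHom)
    (fun h z => (hΨy (e.symm h) z).trans (by rw [e.apply_symm_apply]))
    (fun h i => by
      have hh := hspan ix _ (hG _ (e.symm h).2 i)
      rw [← hΨx, show (fun a => ix (X a)) = fun a => (X (Sum.inl a) : L) from funext hix, hix] at hh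
      exact hh)
  have hr : (Ψ.comp e.symm.toMonoidHom).range = Ψ.range := by
    rw [MonoidHom.range_comp, MonoidHom.range_eq_top_of_surjective e.symm.toMonoidHom e.symm.surjective,
      ← MonoidHom.range_eq_map]
  exact ⟨eG.trans ((IntermediateField.equivOfEq (by rw [hr])).trans eH.symm)⟩

end InvFldH7
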